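import Mathlib

/-!
# Structures on a quotient along a map with local lifts, in an abstract cartesian category
-/

set_option autoImplicit false

universe v u

namespace Groth.SheafGrpQuot

open CategoryTheory MonoidalCategory MonObj CartesianMonoidalCategory SemiCartesianMonoidalCategory

variable {D : Type u} [Category.{v} D] [CartesianMonoidalCategory D]

theorem wL_eq (A : D) {X Y : D} (f : X ⟶ Y) : A ◁ f = lift (fst A X) (snd A X ≫ f) :=
  CartesianMonoidalCategory.hom_ext _ _ (by simp) (by simp)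

theorem wR_eq (A : D) {X Y : D} (f : X ⟶ Y) : f ▷ A = lift (fst X A ≫ f) (snd X A) :=
  CartesianMonoidalCategory.hom_ext _ _ (by simp) (by simp)

variable {G Q : D} [hG : GrpObj G] (π : G ⟶ Q)

/-- Every element of `Q` lifts to `G` along an epimorphism. -/
def HasLifts : Prop :=
  ∀ (W : D) (z : W ⟶ Q), ∃ (B : D) (p : B ⟶ W) (g : B ⟶ G), Epi p ∧ g ≫ π = p ≫ z

variable {π}

theorem HasLifts.hom_ext₂ (hπ : HasLifts π) {Z : D} {f g : Q ⊗ Q ⟶ Z}
    (h : ∀ (W : D) (a b : W ⟶ G),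
      lift (a ≫ π) (b ≫ π) ≫ f = lift (a ≫ π) (b ≫ π) ≫ g) : f = g := by
  obtain ⟨B, p, a, hp, ha⟩ := hπ _ (fst Q Q)
  obtain ⟨B', p', b, hp', hb⟩ := hπ _ (p ≫ snd Q Q)
  have key : lift ((p' ≫ a) ≫ π) (b ≫ π) = p' ≫ p := by
    rw [Category.assoc, ha, hb]
    refine CartesianMonoidalCategory.hom_ext _ _ ?_ ?_ <;> simp
  rw [← cancel_epi p, ← cancel_epi p', ← Category.assoc, ← key, h, key, Category.assoc]

theorem HasLifts.hom_ext₁ (hπ : HasLifts π) {A Z : D} {f g : A ⊗ Q ⟶ Z}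
    (h : ∀ (W : D) (a : W ⟶ A) (b : W ⟶ G), lift a (b ≫ π) ≫ f = lift a (b ≫ π) ≫ g) : f = g := by
  obtain ⟨B, p, b, hp, hb⟩ := hπ _ (snd A Q)
  have key : lift (p ≫ fst A Q) (b ≫ π) = p := by
    rw [hb]
    refine CartesianMonoidalCategory.hom_ext _ _ ?_ ?_ <;> simp
  rw [← cancel_epi p, ← key, h]

/-- The action descended from left translation satisfies the axioms. -/
theorem act_axioms (hπ : HasLifts π) {ρ : G ⊗ Q ⟶ Q}
    (hρ : ∀ (W : D) (a b : W ⟶ G), lift a (b ≫ π) ≫ ρ = (a * b) ≫ π) :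
    (hG.one ▷ Q) ≫ ρ = (λ_ Q).hom ∧
    (hG.mul ▷ Q) ≫ ρ = (α_ G G Q).hom ≫ (G ◁ ρ) ≫ ρ := by
  constructor
  · refine hπ.hom_ext₁ fun W a b => ?_
    rw [← Category.assoc, lift_whiskerRight, toUnit_unique a (toUnit W), ← Hom.one_def, hρ,
      _root_.one_mul, leftUnitor_hom, lift_snd]
  · refine hπ.hom_ext₁ fun W a b => ?_
    have ha : a = lift (a ≫ fst G G) (a ≫ snd G G) := by
      rw [← comp_lift, lift_fst_snd, Category.comp_id]
    rw [ha, lift_lift_associator_hom_assoc, ← Category.assoc, ← Category.assoc,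
      lift_whiskerRight, lift_whiskerLeft, ← Hom.mul_def, hρ, hρ, hρ, _root_.mul_assoc]

/-- Uniqueness of the descended action. -/
theorem act_unique (hπ : HasLifts π) {ρ ρ' : G ⊗ Q ⟶ Q}
    (hρ : ∀ (W : D) (a b : W ⟶ G), lift a (b ≫ π) ≫ ρ = (a * b) ≫ π)
    (hρ' : hG.mul ≫ π = (G ◁ π) ≫ ρ') : ρ' = ρ := by
  refine hπ.hom_ext₁ fun W a b => ?_
  rw [hρ, ← lift_whiskerLeft, Category.assoc, ← hρ', Hom.mul_def, Category.assoc]

/-- The group structure on the quotient. -/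
theorem existsUnique_grpObj (hπ : HasLifts π) (m : Q ⊗ Q ⟶ Q) (i : Q ⟶ Q)
    (hm : ∀ (W : D) (a b : W ⟶ G), lift (a ≫ π) (b ≫ π) ≫ m = (a * b) ≫ π)
    (hi : ∀ (W : D) (a : W ⟶ G), (a ≫ π) ≫ i = a⁻¹ ≫ π) :
    ∃! str : GrpObj Q, @IsMonHom D _ _ G Q hG.toMonObj str.toMonObj π := by
  let e : 𝟙_ D ⟶ Q := hG.one ≫ π
  have he : ∀ W : D, toUnit W ≫ e = (1 : W ⟶ G) ≫ π := fun W => by
    rw [Hom.one_def, Category.assoc]
  have h1 : ∀ (W : D) (z : W ⟶ Q), lift (toUnit W ≫ e) z ≫ m = z := fun W z => by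
    obtain ⟨B, p, g, hp, hg⟩ := hπ W z
    rw [← cancel_epi p, ← Category.assoc, comp_lift, comp_toUnit_assoc, he, ← hg, hm,
      _root_.one_mul]
  have h2 : ∀ (W : D) (z : W ⟶ Q), lift z (toUnit W ≫ e) ≫ m = z := fun W z => by
    obtain ⟨B, p, g, hp, hg⟩ := hπ W z
    rw [← cancel_epi p, ← Category.assoc, comp_lift, comp_toUnit_assoc, he, ← hg, hm,
      _root_.mul_one]
  have h3 : ∀ (W : D) (x y z : W ⟶ Q),
      lift (lift x y ≫ m) z ≫ m = lift x (lift y z ≫ m) ≫ m := fun W x y z => by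
    obtain ⟨B, p, a, hp, ha⟩ := hπ W x
    obtain ⟨B', p', b, hp', hb⟩ := hπ B (p ≫ y)
    obtain ⟨B'', p'', c, hp'', hc⟩ := hπ B' (p' ≫ p ≫ z)
    have ha' : ((p'' ≫ p') ≫ a) ≫ π = p'' ≫ p' ≫ p ≫ x := by
      rw [Category.assoc, Category.assoc, ha]
    have hb' : (p'' ≫ b) ≫ π = p'' ≫ p' ≫ p ≫ y := by rw [Category.assoc, hb]
    rw [← cancel_epi p, ← cancel_epi p', ← cancel_epi p'']
    simp only [comp_lift_assoc, comp_lift, ← ha', ← hb', ← hc, hm, _root_.mul_assoc]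
  have h4 : ∀ (W : D) (z : W ⟶ Q),
      lift (z ≫ i) z ≫ m = toUnit W ≫ e ∧ lift z (z ≫ i) ≫ m = toUnit W ≫ e := fun W z => by
    obtain ⟨B, p, g, hp, hg⟩ := hπ W z
    constructor <;>
    rw [← cancel_epi p, ← Category.assoc, comp_lift, comp_toUnit_assoc, ← Category.assoc, ← hg, hi,
      hm, he]
    · rw [inv_mul_cancel]
    · rw [mul_inv_cancel]
  let str : GrpObj Q :=
    { one := e
      mul := m
      inv := i
      one_mul := by
        rw [wR_eq, toUnit_unique (fst (𝟙_ D) Q) (toUnit _), h1, leftUnitor_hom]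
      mul_one := by
        rw [wL_eq, toUnit_unique (snd Q (𝟙_ D)) (toUnit _), h2, rightUnitor_hom]
      mul_assoc := by
        have l1 : fst (Q ⊗ Q) Q ≫ m =
            lift (fst (Q ⊗ Q) Q ≫ fst Q Q) (fst (Q ⊗ Q) Q ≫ snd Q Q) ≫ m := by
          rw [← comp_lift, lift_fst_snd, Category.comp_id]
        rw [wR_eq, wL_eq, l1, h3]
        simp only [← Category.assoc]
        congr 1
        refine CartesianMonoidalCategory.hom_ext _ _ ?_ ?_
        · simp
        · simp only [lift_snd, Category.assoc]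
          rw [← Category.assoc]
          congr 1
          refine CartesianMonoidalCategory.hom_ext _ _ ?_ ?_ <;> simp
      left_inv := by
        have := (h4 Q (𝟙 Q)).1
        rwa [Category.id_comp] at this
      right_inv := by
        have := (h4 Q (𝟙 Q)).2
        rwa [Category.id_comp] at this }
  have hmul : hG.mul ≫ π = (π ⊗ₘ π) ≫ m := by
    have : (π ⊗ₘ π) = lift (fst G G ≫ π) (snd G G ≫ π) :=
      CartesianMonoidalCategory.hom_ext _ _ (by simp) (by simp)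
    rw [this, hm, Hom.mul_def, lift_fst_snd, Category.id_comp]
  refine ⟨str, @IsMonHom.mk _ _ _ _ _ hG.toMonObj str.toMonObj π rfl hmul, ?_⟩
  intro str' hπ'
  refine GrpObj.ext _ _ (MonObj.ext _ _ ?_)
  change str'.mul = m
  have hmul' : hG.mul ≫ π = (π ⊗ₘ π) ≫ str'.mul :=
    @IsMonHom.mul_hom _ _ _ _ _ hG.toMonObj str'.toMonObj π hπ'
  refine hπ.hom_ext₂ fun W a b => ?_
  rw [← lift_map, Category.assoc, Category.assoc, ← hmul, ← hmul']

end Groth.SheafGrpQuot
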