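import Mathlib

/-!
# Universally effective epimorphisms of sheaves of types

If `π : A ⟶ Q` is a morphism of sheaves of types factoring as a sectionwise surjection
`q : A.obj ⟶ P` followed by a map `j : P ⟶ Q.obj` which becomes an isomorphism after sheafification,
then every base change of `π` is an effective epimorphism.
-/

set_option autoImplicit false

universe w v₁ u₁

namespace Groth.SheafGrpQuot

open CategoryTheory CategoryTheory.Limits Opposite

variable {C : Type u₁} [Category.{v₁} C] {J : GrothendieckTopology C} [HasSheafify J (Type w)]


/-- Epimorphisms of presheaves of types are regular. -/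
theorem isRegularEpi_psh {D : Type*} [Category* D] {F G : D ⥤ Type w} (e : F ⟶ G) [Epi e] :
    IsRegularEpi e := by
  have hs : ∀ U, Function.Surjective (e.app U) := fun U =>
    (epi_iff_surjective _).mp ((NatTrans.epi_iff_epi_app e).mp inferInstance U)
  have key : ∀ (s : Cofork (pullback.fst e e) (pullback.snd e e)) (U : D) (x y : F.obj U),
      e.app U x = e.app U y → s.π.app U x = s.π.app U y := by
    intro s U x y h
    obtain ⟨b, rfl, rfl⟩ := Types.exists_of_isPullback
      ((IsPullback.of_hasPullback e e).map ((evaluation _ _).obj U)) x y h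
    exact congrArg (fun f => f.app U b) s.condition
  refine ⟨⟨{ W := pullback e e, left := pullback.fst e e, right := pullback.snd e e,
             w := pullback.condition, isColimit := ?_ }⟩⟩
  refine Cofork.IsColimit.mk _ (fun s => {
      app := fun U => ↾fun y => s.π.app U (Function.surjInv (hs U) y)
      naturality := fun U V f => by
        ext y
        change s.π.app V (Function.surjInv (hs V) (G.map f y)) =
          s.pt.map f (s.π.app U (Function.surjInv (hs U) y))
        rw [← NatTrans.naturality_apply s.π f]
        refine key s V _ _ ?_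
        rw [Function.surjInv_eq (hs V), NatTrans.naturality_apply e f,
          Function.surjInv_eq (hs U)] })
    (fun s => by
      ext U x
      exact key s U _ _ (Function.surjInv_eq (hs U) _))
    (fun s m hm => by
      ext U y
      change m.app U y = s.π.app U (Function.surjInv (hs U) y)
      conv_lhs => rw [← Function.surjInv_eq (hs U) y]
      exact congrArg (fun f => f.app U (Function.surjInv (hs U) y)) hm)

/-- Left adjoints send effective epimorphisms of presheaves of types to effective epimorphisms. -/
theorem effectiveEpi_map {F G : Cᵒᵖ ⥤ Type w} (e : F ⟶ G) [Epi e] : EffectiveEpi ((presheafToSheaf J (Type w)).map e) := by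
  rw [← isRegularEpi_iff_effectiveEpi]
  have := isRegularEpi_psh e
  have r : RegularEpi e := IsRegularEpi.getStruct e
  exact ⟨⟨{
    W := (presheafToSheaf J (Type w)).obj r.W
    left := (presheafToSheaf J (Type w)).map r.left
    right := (presheafToSheaf J (Type w)).map r.right
    w := by rw [← Functor.map_comp, ← Functor.map_comp, r.w]
    isColimit := isColimitCoforkMapOfIsColimit (presheafToSheaf J (Type w)) _ r.isColimit }⟩⟩

theorem map_hom {F G : Sheaf J (Type w)} (f : F ⟶ G) :
    f = inv ((sheafificationAdjunction J (Type w)).counit.app F) ≫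
      (presheafToSheaf J (Type w)).map f.hom ≫ (sheafificationAdjunction J (Type w)).counit.app G := by
  rw [IsIso.eq_inv_comp]
  exact ((sheafificationAdjunction J (Type w)).counit_naturality f).symm

variable {A Q : Sheaf J (Type w)} {π : A ⟶ Q} {P : Cᵒᵖ ⥤ Type w} {q : A.obj ⟶ P} {j : P ⟶ Q.obj}

theorem effectiveEpi_of_isPullback (hq : ∀ U, Function.Surjective (q.app U))
    (hqj : q ≫ j = π.hom) (hj : IsIso ((presheafToSheaf J (Type w)).map j))
    {Y B : Sheaf J (Type w)} {p₁ : B ⟶ Y} {p₂ : B ⟶ A} {z : Y ⟶ Q}
    (hB : IsPullback p₁ p₂ z π) : EffectiveEpi p₁ := by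
  have hB' : IsPullback p₁.hom p₂.hom z.hom π.hom := hB.map (sheafToPresheaf J (Type w))
  have hY : IsPullback (pullback.fst z.hom j) (pullback.snd z.hom j) z.hom j :=
    IsPullback.of_hasPullback _ _
  let e : B.obj ⟶ pullback z.hom j := pullback.lift p₁.hom (p₂.hom ≫ q)
    (by rw [Category.assoc, hqj]; exact hB'.w)
  have : Epi e := by
    rw [NatTrans.epi_iff_epi_app]
    intro U
    rw [epi_iff_surjective]
    intro y
    have hBU := hB'.map ((evaluation _ _).obj U)
    have hYU := hY.map ((evaluation _ _).obj U)
    obtain ⟨x, hx⟩ := hq U ((pullback.snd z.hom j).app U y)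
    have hzx : z.hom.app U ((pullback.fst z.hom j).app U y) = π.hom.app U x := by
      rw [← hqj]
      change _ = j.app U (q.app U x)
      rw [hx]
      exact congrArg (fun f => f.app U y) hY.w
    obtain ⟨b, hb₁, hb₂⟩ := Types.exists_of_isPullback hBU _ _ hzx
    refine ⟨b, Types.ext_of_isPullback hYU ?_ ?_⟩
    · change (e ≫ pullback.fst z.hom j).app U b = _
      simp only [e, pullback.lift_fst]
      exact hb₁
    · change (e ≫ pullback.snd z.hom j).app U b = _
      simp only [e, pullback.lift_snd]
      change q.app U (p₂.hom.app U b) = (pullback.snd z.hom j).app U y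
      rw [← hx]
      exact congrArg (q.app U) hb₂
  have : IsIso ((presheafToSheaf J (Type w)).map (pullback.fst z.hom j)) := (hY.map (presheafToSheaf J (Type w))).isIso_fst_of_isIso
  have hp : p₁.hom = e ≫ pullback.fst z.hom j := (pullback.lift_fst _ _ _).symm
  have := effectiveEpi_map (J := J) e
  have : EffectiveEpi ((presheafToSheaf J (Type w)).map p₁.hom) := by
    rw [hp, Functor.map_comp]
    infer_instance
  rw [map_hom p₁]
  infer_instance

end Groth.SheafGrpQuot
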