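import Mathlib
import Groth.Agent.Lib.SheafGrpQuot.Stable

/-!
# The quotient of a sheaf of groups by a subgroup sheaf

For a monomorphism of sheaves of groups `u : H ⟶ G` the coequalizer `π : G ⟶ G/H` of
`fst, (g, h) ↦ g * u h` satisfies: `a ≫ π = b ≫ π` iff `b = a * (h ≫ u)` for some `h`, and
every base change of `π` is an effective epimorphism.
-/

set_option autoImplicit false

universe w v₁ u₁

namespace Groth.SheafGrpQuot

open CategoryTheory CategoryTheory.Limits MonoidalCategory Opposite
open MonObj CartesianMonoidalCategory SemiCartesianMonoidalCategory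

variable {C : Type u₁} [Category.{v₁} C] {J : GrothendieckTopology C} [HasSheafify J (Type w)]
variable {H G : Sheaf J (Type w)} [hH : GrpObj H] [hG : GrpObj G]
variable (u : H ⟶ G)

/-- The right action of `H` on `G`. -/
abbrev act : G ⊗ H ⟶ G := (G ◁ u) ≫ hG.mul

/-- The projection to the quotient sheaf. -/
noncomputable abbrev qπ : G ⟶ coequalizer (fst G H) (act u) := coequalizer.π _ _

omit hH in
theorem lift_act {Y : Sheaf J (Type w)} (g : Y ⟶ G) (h : Y ⟶ H) :
    lift g h ≫ act u = g * (h ≫ u) := by
  rw [Hom.mul_def, act, ← Category.assoc]; congr 1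

/-- Two sections are related if they differ by an element of `H`. -/
def rel (U : Cᵒᵖ) (x y : G.obj.obj U) : Prop :=
  ∃ h : H.obj.obj U, (act u).hom.app U (x, h) = y

variable [hu : @IsMonHom (Sheaf J (Type w)) _ _ H G hH.toMonObj hG.toMonObj u]
include hu

theorem rel_trans {U : Cᵒᵖ} {x : G.obj.obj U} (h k : H.obj.obj U) :
    (act u).hom.app U ((act u).hom.app U (x, h), k) =
      (act u).hom.app U (x, hH.mul.hom.app U (h, k)) := by
  let p := fst (G ⊗ H) H ≫ fst G H
  let q := fst (G ⊗ H) H ≫ snd G H
  let r := snd (G ⊗ H) H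
  have : lift (lift p q ≫ act u) r ≫ act u = lift p (q * r) ≫ act u := by
    rw [lift_act, lift_act, lift_act, _root_.mul_assoc]; congr 1; exact (MonObj.mul_comp q r u).symm
  exact congrArg (fun f => f.hom.app U ((x, h), k)) this

theorem rel_symm {U : Cᵒᵖ} {x : G.obj.obj U} (h : H.obj.obj U) :
    (act u).hom.app U ((act u).hom.app U (x, h), hH.inv.hom.app U h) = x := by
  let p := fst G H
  let q := snd G H
  have : lift (lift p q ≫ act u) q⁻¹ ≫ act u = p := by
    rw [lift_act, lift_act, _root_.mul_assoc, ← MonObj.mul_comp, mul_inv_cancel, MonObj.one_comp, _root_.mul_one]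
  exact congrArg (fun f => f.hom.app U (x, h)) this

theorem rel_equiv (U : Cᵒᵖ) : Equivalence (rel u U) where
  refl x := by
    have : lift (𝟙 G) (1 : G ⟶ H) ≫ act u = 𝟙 G := by rw [lift_act, MonObj.one_comp, _root_.mul_one]
    exact ⟨_, congrArg (fun f => f.hom.app U x) this⟩
  symm := fun {x y} ⟨h, hh⟩ => ⟨hH.inv.hom.app U h, by subst hh; exact rel_symm u h⟩
  trans := fun {x y z} ⟨h, hh⟩ ⟨k, hk⟩ => ⟨hH.mul.hom.app U (h, k), by subst hk; subst hh; exact (rel_trans u h k).symm⟩

omit hu in
theorem rel_map {U V : Cᵒᵖ} (f : U ⟶ V) {x y : G.obj.obj U} (hxy : rel u U x y) :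
    rel u V (G.obj.map f x) (G.obj.map f y) := by
  obtain ⟨h, rfl⟩ := hxy
  exact ⟨H.obj.map f h, NatTrans.naturality_apply (act u).hom f ((x, h) : (G ⊗ H).obj.obj U)⟩

omit hu in
/-- The presheaf of cosets. -/
def P : Cᵒᵖ ⥤ Type w where
  obj U := Quot (rel u U)
  map f := ↾(Quot.map (G.obj.map f) (fun _ _ h => rel_map u f h))
  map_id U := by ext ⟨x⟩; simp [Quot.map]
  map_comp f g := by ext ⟨x⟩; simp [Quot.map]

omit hu in
/-- The projection to the presheaf of cosets. -/
def q : G.obj ⟶ P u where
  app U := ↾(fun x => Quot.mk (rel u U) x)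
  naturality U V f := by ext x; rfl

omit hu in
theorem q_surj (U : Cᵒᵖ) : Function.Surjective ((q u).app U) := fun y => Quot.exists_rep y

omit hu in
theorem π_cond {U : Cᵒᵖ} {x y : G.obj.obj U} (hxy : rel u U x y) :
    (qπ u).hom.app U x = (qπ u).hom.app U y := by
  obtain ⟨h, rfl⟩ := hxy
  exact congrArg (fun f => f.hom.app U (x, h)) (coequalizer.condition (fst G H) (act u))

omit hu in
/-- The comparison to the quotient sheaf. -/
noncomputable def j : P u ⟶ (coequalizer (fst G H) (act u)).obj where
  app U := ↾(Quot.lift (fun x => (qπ u).hom.app U x) (fun _ _ h => π_cond u h))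
  naturality U V f := by
    ext ⟨x⟩
    exact NatTrans.naturality_apply (qπ u).hom f x

omit hu in
theorem q_j : q u ≫ j u = (qπ u).hom := rfl

omit hu in
theorem q_cond : (fst G H).hom ≫ q u = (act u).hom ≫ q u := by
  ext U ⟨x, h⟩
  exact Quot.sound ⟨h, rfl⟩

omit hH hG in
/-- The counit of sheafification. -/
noncomputable abbrev ε (X : Sheaf J (Type w)) :=
  (sheafificationAdjunction J (Type w)).counit.app X

omit hu in
theorem counit_nat {X Y : Sheaf J (Type w)} (f : X ⟶ Y) :
    (presheafToSheaf J (Type w)).map f.hom ≫ (ε Y) = (ε X) ≫ f :=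
  (sheafificationAdjunction J (Type w)).counit_naturality f

omit hu in
theorem map_q_jhat : (presheafToSheaf J (Type w)).map (q u) ≫
    (presheafToSheaf J (Type w)).map (j u) ≫ (ε (coequalizer (fst G H) (act u))) =
      (ε G) ≫ qπ u := by
  rw [← Category.assoc, ← Functor.map_comp, q_j, counit_nat]

omit hu in
theorem isIso_jhat : IsIso ((presheafToSheaf J (Type w)).map (j u) ≫
    (ε (coequalizer (fst G H) (act u)))) := by
  have hr : fst G H ≫ inv (ε G) ≫ (presheafToSheaf J (Type w)).map (q u) =
      act u ≫ inv (ε G) ≫ (presheafToSheaf J (Type w)).map (q u) := by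
    have : ∀ f : G ⊗ H ⟶ G, f ≫ inv (ε G) =
        inv (ε (G ⊗ H)) ≫ (presheafToSheaf J (Type w)).map f.hom := by
      intro f
      rw [IsIso.eq_inv_comp, ← Category.assoc, IsIso.comp_inv_eq]
      exact (counit_nat f).symm
    rw [← Category.assoc, ← Category.assoc, this, this, Category.assoc, Category.assoc,
      ← Functor.map_comp, ← Functor.map_comp, q_cond]
  refine ⟨coequalizer.desc (inv (ε G) ≫ (presheafToSheaf J (Type w)).map (q u)) hr, ?_, ?_⟩
  · have : Epi (q u) := by
      rw [NatTrans.epi_iff_epi_app]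
      exact fun U => (epi_iff_surjective _).mpr (q_surj u U)
    have := effectiveEpi_map (J := J) (q u)
    rw [← cancel_epi ((presheafToSheaf J (Type w)).map (q u)), ← Category.assoc, map_q_jhat]
    simp
  · apply coequalizer.hom_ext
    rw [← Category.assoc, coequalizer.π_desc, Category.assoc, map_q_jhat]
    simp

omit hu in
theorem isIso_map_j : IsIso ((presheafToSheaf J (Type w)).map (j u)) :=
  have := isIso_jhat u
  IsIso.of_isIso_comp_right _ (ε (coequalizer (fst G H) (act u)))

omit hu in
/-- Every base change of the quotient map is an effective epimorphism. -/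
theorem effectiveEpi_pullback {Y B : Sheaf J (Type w)} {p₁ : B ⟶ Y} {p₂ : B ⟶ G}
    {z : Y ⟶ coequalizer (fst G H) (act u)} (hB : IsPullback p₁ p₂ z (qπ u)) : EffectiveEpi p₁ :=
  effectiveEpi_of_isPullback (q_surj u) (q_j u) (isIso_map_j u) hB

variable [Mono u]

theorem act_free {U : Cᵒᵖ} {x : G.obj.obj U} {h k : H.obj.obj U}
    (e : (act u).hom.app U (x, h) = (act u).hom.app U (x, k)) : h = k := by
  have hi : Function.Injective (u.hom.app U) := by
    have : Mono u.hom := inferInstanceAs (Mono ((sheafToPresheaf J (Type w)).map u))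
    rw [← mono_iff_injective]
    infer_instance
  apply hi
  have key : lift (fst G H)⁻¹ (act u) ≫ hG.mul = snd G H ≫ u := by
    have : act u = fst G H * (snd G H ≫ u) := by
      have hl : lift (fst G H) (snd G H) = 𝟙 (G ⊗ H) :=
        CartesianMonoidalCategory.hom_ext _ _ ((lift_fst _ _).trans (Category.id_comp _).symm) ((lift_snd _ _).trans (Category.id_comp _).symm)
      rw [← lift_act, hl]
      exact (Category.id_comp _).symm
    rw [← Hom.mul_def, this, inv_mul_cancel_left]
  exact (congrArg (fun f => f.hom.app U (x, h)) key).symm.trans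
    ((congrArg (fun z => hG.mul.hom.app U (hG.inv.hom.app U x, z)) e).trans
      (congrArg (fun f => f.hom.app U (x, k)) key))

theorem isPullback_q : IsPullback (fst G H).hom (act u).hom (q u) (q u) := by
  refine ⟨⟨q_cond u⟩, ⟨PullbackCone.IsLimit.mk _ ?_ ?_ ?_ ?_⟩⟩
  · intro s
    have hex : ∀ U (t : s.pt.obj U), rel u U (s.fst.app U t) (s.snd.app U t) := fun U t =>
      ((rel_equiv u U).eqvGen_iff).mp
        (Quot.eqvGen_exact (congrArg (fun f => f.app U t) s.condition))
    exact {
      app := fun U => ↾fun t => (s.fst.app U t, (hex U t).choose)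
      naturality := fun U V f => by
        ext t
        change (s.fst.app V (s.pt.map f t), (hex V (s.pt.map f t)).choose) =
          (G.obj.map f (s.fst.app U t), H.obj.map f (hex U t).choose)
        refine Prod.ext (NatTrans.naturality_apply s.fst f t) (act_free u (x := s.fst.app V (s.pt.map f t)) ?_)
        refine (hex V (s.pt.map f t)).choose_spec.trans ?_
        rw [NatTrans.naturality_apply s.snd f t, NatTrans.naturality_apply s.fst f t]
        refine (congrArg (G.obj.map f) (hex U t).choose_spec).symm.trans ?_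
        exact (NatTrans.naturality_apply (act u).hom f _).symm }
  · intro s
    ext U t
    rfl
  · intro s
    ext U t
    exact Exists.choose_spec (p := fun h => (act u).hom.app U (s.fst.app U t, h) = s.snd.app U t) _
  · intro s m h₁ h₂
    ext U t
    have e₁ : (m.app U t).1 = s.fst.app U t := congrArg (fun f => f.app U t) h₁
    refine Prod.ext e₁ (act_free u (x := s.fst.app U t) ?_)
    refine Eq.trans ?_ (Exists.choose_spec
      (p := fun h => (act u).hom.app U (s.fst.app U t, h) = s.snd.app U t) _).symm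
    rw [← e₁]
    exact congrArg (fun f => f.app U t) h₂

/-- The kernel pair of the quotient map. -/
theorem isPullback_π : IsPullback (fst G H) (act u) (qπ u) (qπ u) := by
  have := isIso_jhat u
  refine ((isPullback_q u).map (presheafToSheaf J (Type w))).of_iso (asIso (ε (G ⊗ H)))
    (asIso (ε G)) (asIso (ε G))
    (asIso ((presheafToSheaf J (Type w)).map (j u) ≫ ε (coequalizer (fst G H) (act u))))
    (counit_nat _) (counit_nat _) (map_q_jhat u) (map_q_jhat u)

/-- Two morphisms agree in the quotient iff they differ by a morphism to `H`. -/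
theorem π_eq_iff {Y : Sheaf J (Type w)} (g g' : Y ⟶ G) :
    g ≫ qπ u = g' ≫ qπ u ↔ ∃ h : Y ⟶ H, g * (h ≫ u) = g' := by
  constructor
  · intro e
    obtain ⟨l, h₁, h₂⟩ := (isPullback_π u).exists_lift g g' e
    refine ⟨l ≫ snd G H, ?_⟩
    rw [← lift_act, ← h₁, ← comp_lift, lift_fst_snd, Category.comp_id, h₂]
  · rintro ⟨h, rfl⟩
    rw [← lift_act, Category.assoc, ← coequalizer.condition, ← Category.assoc, lift_fst]

end Groth.SheafGrpQuot
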