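import Mathlib
import Groth.Agent.Lib.SheafGrpQuot.Quot

/-!
# Generalised elements of the quotient sheaf `G/H`

Locally lifting elements of `G/H`, descent along `π` in either variable, the action of `G` on `G/H`
and the multiplication of `G/H` for a normal subgroup sheaf.
-/

set_option autoImplicit false

universe w v₁ u₁

namespace Groth.SheafGrpQuot

open CategoryTheory CategoryTheory.Limits MonoidalCategory Opposite
open MonObj CartesianMonoidalCategory SemiCartesianMonoidalCategory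

variable {C : Type u₁} [Category.{v₁} C] {J : GrothendieckTopology C} [HasSheafify J (Type w)]
variable {H G : Sheaf J (Type w)} [hH : GrpObj H] [hG : GrpObj G]
variable {u : H ⟶ G}

section
omit [HasSheafify J (Type w)] hH hG

theorem wL_fst (A : Sheaf J (Type w)) {X Y : Sheaf J (Type w)} (f : X ⟶ Y) :
    (A ◁ f) ≫ fst A Y = fst A X := whiskerLeft_fst _ _

theorem wL_snd (A : Sheaf J (Type w)) {X Y : Sheaf J (Type w)} (f : X ⟶ Y) :
    (A ◁ f) ≫ snd A Y = snd A X ≫ f := whiskerLeft_snd _ _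

theorem wR_fst (A : Sheaf J (Type w)) {X Y : Sheaf J (Type w)} (f : X ⟶ Y) :
    (f ▷ A) ≫ fst Y A = fst X A ≫ f := whiskerRight_fst _ _

theorem wR_snd (A : Sheaf J (Type w)) {X Y : Sheaf J (Type w)} (f : X ⟶ Y) :
    (f ▷ A) ≫ snd Y A = snd X A := whiskerRight_snd _ _

theorem lift_wL {W A X Y : Sheaf J (Type w)} (a : W ⟶ A) (b : W ⟶ X) (f : X ⟶ Y) :
    lift a b ≫ (A ◁ f) = lift a (b ≫ f) := lift_whiskerLeft _ _ _

theorem lift_wR {W A X Y : Sheaf J (Type w)} (a : W ⟶ A) (b : W ⟶ X) (f : X ⟶ Y) :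
    lift b a ≫ (f ▷ A) = lift (b ≫ f) a := lift_whiskerRight _ _ _

end


/-- Locally every element of the quotient lifts. -/
theorem exists_lift_π {W : Sheaf J (Type w)} (z : W ⟶ coequalizer (fst G H) (act u)) :
    ∃ (B : Sheaf J (Type w)) (p : B ⟶ W) (g : B ⟶ G), EffectiveEpi p ∧ g ≫ qπ u = p ≫ z :=
  ⟨_, pullback.fst z (qπ u), pullback.snd z (qπ u),
    effectiveEpi_pullback u (IsPullback.of_hasPullback _ _), pullback.condition.symm⟩


theorem isPullback_whiskerLeft (A : Sheaf J (Type w)) :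
    IsPullback (A ◁ qπ u) (snd A G) (snd A (coequalizer (fst G H) (act u))) (qπ u) := by
  refine ⟨⟨wL_snd _ _⟩, ⟨PullbackCone.IsLimit.mk _
    (fun s => lift (s.fst ≫ fst _ _) s.snd) (fun s => ?_) (fun s => lift_snd _ _)
    (fun s m h₁ h₂ => ?_)⟩⟩
  · refine CartesianMonoidalCategory.hom_ext _ _ ?_ ?_
    · rw [Category.assoc, wL_fst, lift_fst]
    · rw [Category.assoc, wL_snd, lift_snd_assoc, s.condition]
  · refine CartesianMonoidalCategory.hom_ext _ _ ?_ ?_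
    · rw [lift_fst, ← h₁, Category.assoc, wL_fst]
    · rw [lift_snd, ← h₂]


theorem isPullback_whiskerRight (A : Sheaf J (Type w)) :
    IsPullback (qπ u ▷ A) (fst G A) (fst (coequalizer (fst G H) (act u)) A) (qπ u) := by
  refine ⟨⟨wR_fst _ _⟩, ⟨PullbackCone.IsLimit.mk _
    (fun s => lift s.snd (s.fst ≫ snd _ _)) (fun s => ?_) (fun s => lift_fst _ _)
    (fun s m h₁ h₂ => ?_)⟩⟩
  · refine CartesianMonoidalCategory.hom_ext _ _ ?_ ?_
    · rw [Category.assoc, wR_fst, lift_fst_assoc, s.condition]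
    · rw [Category.assoc, wR_snd, lift_snd]
  · refine CartesianMonoidalCategory.hom_ext _ _ ?_ ?_
    · rw [lift_fst, ← h₂]
    · rw [lift_snd, ← h₁, Category.assoc, wR_snd]


theorem effectiveEpi_whiskerLeft (A : Sheaf J (Type w)) : EffectiveEpi (A ◁ qπ u) :=
  effectiveEpi_pullback u (isPullback_whiskerLeft A)


theorem effectiveEpi_whiskerRight (A : Sheaf J (Type w)) : EffectiveEpi (qπ u ▷ A) :=
  effectiveEpi_pullback u (isPullback_whiskerRight A)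

variable [hu : @IsMonHom (Sheaf J (Type w)) _ _ H G hH.toMonObj hG.toMonObj u] [Mono u]

/-- Descent along `π`. -/
theorem desc₀ {Z : Sheaf J (Type w)} (f : G ⟶ Z)
    (hf : ∀ (W : Sheaf J (Type w)) (g : W ⟶ G) (h : W ⟶ H), (g * (h ≫ u)) ≫ f = g ≫ f) :
    ∃ d : coequalizer (fst G H) (act u) ⟶ Z, qπ u ≫ d = f := by
  refine ⟨coequalizer.desc f ?_, coequalizer.π_desc _ _⟩
  have := hf _ (fst G H) (snd G H)
  rw [← lift_act, Category.assoc, lift_fst_snd] at this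
  exact this.symm.trans (Category.id_comp _)

/-- Descent along `A ◁ π`. -/
theorem descL (A : Sheaf J (Type w)) {Z : Sheaf J (Type w)} (f : A ⊗ G ⟶ Z)
    (hf : ∀ (W : Sheaf J (Type w)) (a : W ⟶ A) (g : W ⟶ G) (h : W ⟶ H),
      lift a (g * (h ≫ u)) ≫ f = lift a g ≫ f) :
    ∃ d : A ⊗ coequalizer (fst G H) (act u) ⟶ Z, (A ◁ qπ u) ≫ d = f := by
  have := effectiveEpi_whiskerLeft (u := u) A
  suffices key : ∀ {W : Sheaf J (Type w)} (g₁ g₂ : W ⟶ A ⊗ G), g₁ ≫ (A ◁ qπ u) = g₂ ≫ (A ◁ qπ u) → g₁ ≫ f = g₂ ≫ f from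
    ⟨EffectiveEpi.desc (A ◁ qπ u) f key, EffectiveEpi.fac _ _ _⟩
  intro W g₁ g₂ h
  have h₁ : g₁ ≫ fst A G = g₂ ≫ fst A G := by
    simpa only [Category.assoc, wL_fst] using h =≫ fst _ _
  have h₂ : (g₁ ≫ snd A G) ≫ qπ u = (g₂ ≫ snd A G) ≫ qπ u := by
    simpa only [Category.assoc, wL_snd] using h =≫ snd _ _
  obtain ⟨k, hk⟩ := (π_eq_iff u _ _).mp h₂
  have e₁ : g₁ = lift (g₁ ≫ fst A G) (g₁ ≫ snd A G) :=
    CartesianMonoidalCategory.hom_ext _ _ (lift_fst _ _).symm (lift_snd _ _).symm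
  have e₂ : g₂ = lift (g₁ ≫ fst A G) ((g₁ ≫ snd A G) * (k ≫ u)) :=
    CartesianMonoidalCategory.hom_ext _ _ ((lift_fst _ _).trans h₁).symm
      ((lift_snd _ _).trans hk).symm
  rw [e₂, hf, ← e₁]

/-- Descent along `π ▷ A`. -/
theorem descR (A : Sheaf J (Type w)) {Z : Sheaf J (Type w)} (f : G ⊗ A ⟶ Z)
    (hf : ∀ (W : Sheaf J (Type w)) (a : W ⟶ A) (g : W ⟶ G) (h : W ⟶ H),
      lift (g * (h ≫ u)) a ≫ f = lift g a ≫ f) :
    ∃ d : coequalizer (fst G H) (act u) ⊗ A ⟶ Z, (qπ u ▷ A) ≫ d = f := by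
  have := effectiveEpi_whiskerRight (u := u) A
  suffices key : ∀ {W : Sheaf J (Type w)} (g₁ g₂ : W ⟶ G ⊗ A), g₁ ≫ (qπ u ▷ A) = g₂ ≫ (qπ u ▷ A) → g₁ ≫ f = g₂ ≫ f from
    ⟨EffectiveEpi.desc (qπ u ▷ A) f key, EffectiveEpi.fac _ _ _⟩
  intro W g₁ g₂ h
  have h₁ : g₁ ≫ snd G A = g₂ ≫ snd G A := by
    simpa only [Category.assoc, wR_snd] using h =≫ snd _ _
  have h₂ : (g₁ ≫ fst G A) ≫ qπ u = (g₂ ≫ fst G A) ≫ qπ u := by
    simpa only [Category.assoc, wR_fst] using h =≫ fst _ _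
  obtain ⟨k, hk⟩ := (π_eq_iff u _ _).mp h₂
  have e₁ : g₁ = lift (g₁ ≫ fst G A) (g₁ ≫ snd G A) :=
    CartesianMonoidalCategory.hom_ext _ _ (lift_fst _ _).symm (lift_snd _ _).symm
  have e₂ : g₂ = lift ((g₁ ≫ fst G A) * (k ≫ u)) (g₁ ≫ snd G A) :=
    CartesianMonoidalCategory.hom_ext _ _ ((lift_fst _ _).trans hk).symm
      ((lift_snd _ _).trans h₁).symm
  rw [e₂, hf, ← e₁]

variable (u) in
/-- The translation action of `G` on the quotient, pinned on generalised elements. -/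
theorem exists_act : ∃ ρ : G ⊗ coequalizer (fst G H) (act u) ⟶ coequalizer (fst G H) (act u),
    (G ◁ qπ u) ≫ ρ = hG.mul ≫ qπ u := by
  refine descL (u := u) G (hG.mul ≫ qπ u) fun W a g h => ?_
  rw [← Category.assoc, ← Category.assoc, ← Hom.mul_def, ← Hom.mul_def]
  exact ((π_eq_iff u _ _).mpr ⟨h, (_root_.mul_assoc _ _ _)⟩).symm

theorem act_lift {ρ : G ⊗ coequalizer (fst G H) (act u) ⟶ coequalizer (fst G H) (act u)}
    (hρ : (G ◁ qπ u) ≫ ρ = hG.mul ≫ qπ u) {W : Sheaf J (Type w)} (a b : W ⟶ G) :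
    lift a (b ≫ qπ u) ≫ ρ = (a * b) ≫ qπ u := by
  rw [← lift_wL, Category.assoc, hρ, ← Category.assoc, ← Hom.mul_def]

/-- For a normal subgroup the multiplication descends to the quotient. -/
theorem exists_mul
    (hn : ∀ (Y : Sheaf J (Type w)) (g : Y ⟶ G) (h : Y ⟶ H), ∃ h' : Y ⟶ H,
      g * (h ≫ u) * g⁻¹ = h' ≫ u) :
    ∃ m : coequalizer (fst G H) (act u) ⊗ coequalizer (fst G H) (act u) ⟶
      coequalizer (fst G H) (act u),
      ∀ (W : Sheaf J (Type w)) (a b : W ⟶ G),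
        lift (a ≫ qπ u) (b ≫ qπ u) ≫ m = (a * b) ≫ qπ u := by
  obtain ⟨ρ, hρ⟩ := exists_act u
  obtain ⟨m, hm⟩ := descR (u := u) (coequalizer (fst G H) (act u)) ρ fun W z g h => by
    obtain ⟨B, p, y, hp, hy⟩ := exists_lift_π z
    rw [← cancel_epi p, ← Category.assoc, ← Category.assoc, comp_lift, comp_lift, ← hy,
      MonObj.comp_mul, ← Category.assoc, act_lift hρ, act_lift hρ]
    obtain ⟨k, hk⟩ := hn B y⁻¹ (p ≫ h)
    refine ((π_eq_iff u _ _).mpr ⟨k, ?_⟩).symm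
    rw [← hk]
    group
  refine ⟨m, fun W a b => ?_⟩
  rw [← lift_wR, Category.assoc, hm, act_lift hρ]

/-- Inversion descends to the quotient. -/
theorem exists_inv
    (hn : ∀ (Y : Sheaf J (Type w)) (g : Y ⟶ G) (h : Y ⟶ H), ∃ h' : Y ⟶ H,
      g * (h ≫ u) * g⁻¹ = h' ≫ u) :
    ∃ i : coequalizer (fst G H) (act u) ⟶ coequalizer (fst G H) (act u),
      ∀ (W : Sheaf J (Type w)) (a : W ⟶ G), (a ≫ qπ u) ≫ i = a⁻¹ ≫ qπ u := by
  obtain ⟨i, hi⟩ := desc₀ (u := u) ((hG.inv : G ⟶ G) ≫ qπ u) fun W g h => by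
    rw [← Category.assoc, ← Category.assoc, ← Hom.inv_def, ← Hom.inv_def]
    obtain ⟨k, hk⟩ := hn W g h⁻¹
    refine ((π_eq_iff u _ _).mpr ⟨k, ?_⟩).symm
    rw [← hk, GrpObj.inv_comp]
    group
  refine ⟨i, fun W a => ?_⟩
  rw [Category.assoc, hi, ← Category.assoc, ← Hom.inv_def]

end Groth.SheafGrpQuot
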