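import Mathlib
import Groth.Agent.Lib.SheafGrpQuot.Abstract

/-!
# Subgroup objects and quotients by subgroups, in an abstract cartesian category
-/

set_option autoImplicit false

universe v u

namespace Groth.SheafGrpQuot

open CategoryTheory CategoryTheory.Limits MonoidalCategory MonObj CartesianMonoidalCategory SemiCartesianMonoidalCategory

variable {D : Type u} [Category.{v} D] [CartesianMonoidalCategory D]

/-- Every element of `Q` lifts to `G` along a strong epimorphism. -/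
def HasSLifts {G Q : D} (π : G ⟶ Q) : Prop :=
  ∀ (W : D) (z : W ⟶ Q), ∃ (B : D) (p : B ⟶ W) (g : B ⟶ G), StrongEpi p ∧ g ≫ π = p ≫ z

theorem factor_of_strongEpi {A B X Y : D} (p : A ⟶ B) [StrongEpi p] (m : X ⟶ Y) [Mono m]
    (c : A ⟶ X) (z : B ⟶ Y) (w : c ≫ m = p ≫ z) : ∃ d : B ⟶ X, d ≫ m = z :=
  ⟨(CommSq.mk w).lift, (CommSq.mk w).fac_right⟩

variable {G : D} [hG : GrpObj G]

/-- A subobject closed under the operations is a group object and its inclusion a homomorphism. -/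
theorem exists_grpObj_of_mono {P : D} (m : P ⟶ G) [Mono m]
    (h1 : ∃ e : 𝟙_ D ⟶ P, e ≫ m = hG.one)
    (hmul : ∀ (W : D) (a b : W ⟶ P), ∃ c : W ⟶ P, c ≫ m = (a ≫ m) * (b ≫ m))
    (hinv : ∀ (W : D) (a : W ⟶ P), ∃ c : W ⟶ P, c ≫ m = (a ≫ m)⁻¹) :
    ∃ str : GrpObj P, @IsMonHom D _ _ P G str.toMonObj hG.toMonObj m := by
  obtain ⟨e, he⟩ := h1
  obtain ⟨μP, hμ⟩ := hmul _ (fst P P) (snd P P)
  obtain ⟨ιP, hι⟩ := hinv _ (𝟙 P)
  rw [Category.id_comp] at hι
  have hμ' : ∀ (W : D) (a b : W ⟶ P), lift a b ≫ μP ≫ m = (a ≫ m) * (b ≫ m) := fun W a b => by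
    rw [hμ, MonObj.comp_mul, lift_fst_assoc, lift_snd_assoc]
  have he' : ∀ W : D, toUnit W ≫ e ≫ m = (1 : W ⟶ G) := fun W => by rw [he, Hom.one_def]
  have hι' : ∀ (W : D) (a : W ⟶ P), a ≫ ιP ≫ m = (a ≫ m)⁻¹ := fun W a => by
    rw [hι, GrpObj.comp_inv]
  have hμe : μP ≫ m = (fst P P ≫ m) * (snd P P ≫ m) := hμ
  let str : GrpObj P :=
    { one := e
      mul := μP
      inv := ιP
      one_mul := by
        rw [← cancel_mono m, wR_eq, toUnit_unique (fst (𝟙_ D) P) (toUnit _), Category.assoc, hμ',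
          Category.assoc, he', _root_.one_mul, leftUnitor_hom]
      mul_one := by
        rw [← cancel_mono m, wL_eq, toUnit_unique (snd P (𝟙_ D)) (toUnit _), Category.assoc, hμ',
          Category.assoc, he', _root_.mul_one, rightUnitor_hom]
      mul_assoc := by
        rw [← cancel_mono m, wR_eq, wL_eq, Category.assoc, Category.assoc, Category.assoc, hμ',
          Category.assoc, comp_lift_assoc, hμ', Category.assoc, hμe]
        simp [MonObj.comp_mul, _root_.mul_assoc, hμe]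
      left_inv := by
        rw [← cancel_mono m, Category.assoc, Category.assoc, hμ', hι, he', Category.id_comp,
          inv_mul_cancel]
      right_inv := by
        rw [← cancel_mono m, Category.assoc, Category.assoc, hμ', hι, he', Category.id_comp,
          mul_inv_cancel] }
  refine ⟨str, @IsMonHom.mk _ _ _ _ _ str.toMonObj hG.toMonObj m he ?_⟩
  change μP ≫ m = _
  rw [hμe, Hom.mul_def]
  congr 1
  refine CartesianMonoidalCategory.hom_ext _ _ ?_ ?_ <;> simp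

/-- Mutual conditions for the correspondence of subgroups along `π`. -/
theorem subgroup_closed {P : D} (str : GrpObj P) (m : P ⟶ G)
    (hm : @IsMonHom D _ _ P G str.toMonObj hG.toMonObj m) (W : D) :
    (∃ e : W ⟶ P, e ≫ m = 1) ∧
      (∀ a b : W ⟶ P, ∃ c : W ⟶ P, c ≫ m = (a ≫ m) * (b ≫ m)) ∧
      ∀ a : W ⟶ P, ∃ c : W ⟶ P, c ≫ m = (a ≫ m)⁻¹ := by
  have := hm
  exact ⟨⟨1, MonObj.one_comp m⟩, fun a b => ⟨a * b, MonObj.mul_comp a b m⟩,
    fun a => ⟨a⁻¹, GrpObj.inv_comp a m⟩⟩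

/-- The right action of `K/H` on `G/H` is free with quotient `G/K`. -/
theorem free_action {H K Q R S : D} [hK : GrpObj K] (h : H ⟶ K) (k : K ⟶ G)
    (hk : @IsMonHom D _ _ K G hK.toMonObj hG.toMonObj k) [Mono k]
    {π₁ : G ⟶ Q} {π₂ : K ⟶ R} {π₃ : G ⟶ S} (hl₁ : HasLifts π₁) (hl₂ : HasLifts π₂)
    (he₁ : ∀ (W : D) (a b : W ⟶ G), a ≫ π₁ = b ≫ π₁ ↔ ∃ y : W ⟶ H, a * (y ≫ h ≫ k) = b)
    (he₂ : ∀ (W : D) (a b : W ⟶ K), a ≫ π₂ = b ≫ π₂ ↔ ∃ y : W ⟶ H, a * (y ≫ h) = b)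
    (he₃ : ∀ (W : D) (a b : W ⟶ G), a ≫ π₃ = b ≫ π₃ ↔ ∃ y : W ⟶ K, a * (y ≫ k) = b)
    [Epi π₃]
    (hd₃ : ∀ (Z : D) (f : G ⟶ Z),
      (∀ (W : D) (g : W ⟶ G) (y : W ⟶ K), (g * (y ≫ k)) ≫ f = g ≫ f) → ∃ d : S ⟶ Z, π₃ ≫ d = f)
    (act : Q ⊗ R ⟶ Q) (hact : (π₁ ⊗ₘ π₂) ≫ act = (G ◁ k) ≫ hG.mul ≫ π₁)
    (qbar : Q ⟶ S) (hq : π₁ ≫ qbar = π₃) :
    Mono (CartesianMonoidalCategory.lift act (fst Q R)) ∧
      ∃ wq : fst Q R ≫ qbar = act ≫ qbar, Nonempty (IsColimit (Cofork.ofπ qbar wq)) := by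
  have hact' : ∀ (W : D) (a : W ⟶ G) (x : W ⟶ K),
      lift (a ≫ π₁) (x ≫ π₂) ≫ act = (a * (x ≫ k)) ≫ π₁ := fun W a x => by
    rw [← lift_map, Category.assoc, hact, ← Category.assoc, lift_whiskerLeft, ← Category.assoc,
      ← Hom.mul_def]
  have : Epi qbar := by
    have : Epi (π₁ ≫ qbar) := hq ▸ inferInstance
    exact epi_of_epi π₁ qbar
  constructor
  · refine ⟨fun {W} a b hab => ?_⟩
    have hf : a ≫ fst Q R = b ≫ fst Q R := by
      simpa only [Category.assoc, lift_snd] using hab =≫ snd _ _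
    have ha : a ≫ act = b ≫ act := by
      simpa only [Category.assoc, lift_fst] using hab =≫ fst _ _
    refine CartesianMonoidalCategory.hom_ext _ _ hf ?_
    obtain ⟨B, p, g, hp, hg⟩ := hl₁ W (a ≫ fst Q R)
    obtain ⟨B', p', x, hp', hx⟩ := hl₂ B (p ≫ a ≫ snd Q R)
    obtain ⟨B'', p'', y, hp'', hy⟩ := hl₂ B' (p' ≫ p ≫ b ≫ snd Q R)
    rw [← cancel_epi p, ← cancel_epi p', ← cancel_epi p'']
    have hx' : (p'' ≫ x) ≫ π₂ = p'' ≫ p' ≫ p ≫ a ≫ snd Q R := by rw [Category.assoc, hx]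
    have hg' : (p'' ≫ p' ≫ g) ≫ π₁ = p'' ≫ p' ≫ p ≫ a ≫ fst Q R := by
      rw [Category.assoc, Category.assoc, hg]
    have ea : p'' ≫ p' ≫ p ≫ a = lift ((p'' ≫ p' ≫ g) ≫ π₁) ((p'' ≫ x) ≫ π₂) :=
      CartesianMonoidalCategory.hom_ext _ _ (by rw [lift_fst, hg']; simp only [Category.assoc])
        (by rw [lift_snd, hx']; simp only [Category.assoc])
    have eb : p'' ≫ p' ≫ p ≫ b = lift ((p'' ≫ p' ≫ g) ≫ π₁) (y ≫ π₂) :=
      CartesianMonoidalCategory.hom_ext _ _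
        (by rw [lift_fst, hg', hf]; simp only [Category.assoc])
        (by rw [lift_snd, hy]; simp only [Category.assoc])
    have e := congrArg (fun z => p'' ≫ p' ≫ p ≫ z) ha
    simp only [← Category.assoc] at e
    simp only [Category.assoc] at ea eb
    rw [show ((p'' ≫ p') ≫ p) ≫ a = _ from (by simpa only [Category.assoc] using ea),
      show ((p'' ≫ p') ≫ p) ≫ b = _ from (by simpa only [Category.assoc] using eb)] at e
    simp only [← Category.assoc] at e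
    rw [hact', hact'] at e
    obtain ⟨z, hz⟩ := (he₁ _ _ _).mp e
    rw [_root_.mul_assoc, mul_right_inj, ← Category.assoc, ← MonObj.mul_comp, cancel_mono] at hz
    have := (he₂ _ _ _).mpr ⟨z, hz⟩
    rw [← hx', this, hy]
  · have w : fst Q R ≫ qbar = act ≫ qbar := by
      obtain ⟨B, p, a, hp, ha⟩ := hl₁ _ (fst Q R)
      obtain ⟨B', p', x, hp', hx⟩ := hl₂ _ (p ≫ snd Q R)
      rw [← cancel_epi p, ← cancel_epi p']
      have el : p' ≫ p = lift ((p' ≫ a) ≫ π₁) (x ≫ π₂) :=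
        CartesianMonoidalCategory.hom_ext _ _ (by rw [lift_fst, Category.assoc, Category.assoc, ha])
          (by rw [lift_snd, hx, Category.assoc])
      rw [← Category.assoc, ← Category.assoc p', el, ← Category.assoc, lift_fst, ← Category.assoc,
        hact', Category.assoc, Category.assoc, hq, ← Category.assoc, Category.assoc _ π₁ qbar, hq]
      exact (he₃ _ _ _).mpr ⟨x, rfl⟩
    have key : ∀ s : Cofork (fst Q R) act, ∃ d : S ⟶ s.pt, qbar ≫ d = s.π := fun s => by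
      obtain ⟨d, hd⟩ := hd₃ _ (π₁ ≫ s.π) fun W g y => by
        have : Epi π₂ := by
          obtain ⟨B, p, x, hp, hx⟩ := hl₂ R (𝟙 R)
          rw [Category.comp_id] at hx
          exact epi_of_epi_fac hx
        have := congrArg (lift (g ≫ π₁) (y ≫ π₂) ≫ ·) s.condition
        simp only [← Category.assoc, hact', lift_fst] at this
        simpa only [Category.assoc] using this.symm
      refine ⟨d, ?_⟩
      have : Epi π₁ := by
        obtain ⟨B, p, x, hp, hx⟩ := hl₁ Q (𝟙 Q)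
        rw [Category.comp_id] at hx
        exact epi_of_epi_fac hx
      rw [← cancel_epi π₁, ← Category.assoc, hq, hd]
    exact ⟨w, ⟨Cofork.IsColimit.mk _ (fun s => (key s).choose) (fun s => (key s).choose_spec)
      (fun s m hm => by
        rw [← cancel_epi qbar]
        exact hm.trans (key s).choose_spec.symm)⟩⟩

theorem factors_pullback {X Y : D} [HasPullbacks D] (f : X ⟶ Y) (y : Subobject Y) {W : D} (a : W ⟶ X) :
    (∃ c : W ⟶ ((Subobject.pullback f).obj y : D), c ≫ ((Subobject.pullback f).obj y).arrow = a) ↔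
      ∃ d : W ⟶ (y : D), d ≫ y.arrow = a ≫ f := by
  constructor
  · rintro ⟨c, rfl⟩
    exact ⟨c ≫ Subobject.pullbackπ f y, by rw [Category.assoc, (Subobject.isPullback f y).w, Category.assoc]⟩
  · rintro ⟨d, hd⟩
    exact ⟨(Subobject.isPullback f y).lift d a hd, (Subobject.isPullback f y).lift_snd _ _ _⟩

/-- The correspondence of subgroups along a quotient homomorphism with kernel `H`. -/
theorem bijOn_subgroups [HasPullbacks D] {Q H : D} [hQ : GrpObj Q] (π : G ⟶ Q)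
    (hπ : @IsMonHom D _ _ G Q hG.toMonObj hQ.toMonObj π) (hl : HasSLifts π)
    (u : H ⟶ G) [Mono u]
    (he : ∀ (W : D) (a b : W ⟶ G), a ≫ π = b ≫ π ↔ ∃ y : W ⟶ H, a * (y ≫ u) = b)
    (himg : ∀ (K : D) (k : K ⟶ G) (str : GrpObj K), Mono k →
      @IsMonHom D _ _ K G str.toMonObj hG.toMonObj k → (∃ i : H ⟶ K, i ≫ k = u) →
      ∃ (R : D) (πK : K ⟶ R) (j : R ⟶ Q), Mono j ∧ HasSLifts πK ∧ πK ≫ j = k ≫ π) :
    Set.BijOn (Subobject.pullback π).obj
      {K' : Subobject Q | ∃ str : GrpObj (K' : D), @IsMonHom D _ _ _ _ str.toMonObj hQ.toMonObj K'.arrow}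
      {K : Subobject G | Subobject.mk u ≤ K ∧
        ∃ str : GrpObj (K : D), @IsMonHom D _ _ _ _ str.toMonObj hG.toMonObj K.arrow} ∧
    ∀ (K' : Subobject Q),
      ((∀ (Y : D) (g : Y ⟶ Q) (k : Y ⟶ (K' : D)),
          ∃ k' : Y ⟶ (K' : D), g * (k ≫ K'.arrow) * g⁻¹ = k' ≫ K'.arrow) ↔
        (∀ (Y : D) (g : Y ⟶ G) (k : Y ⟶ ((Subobject.pullback π).obj K' : D)),
          ∃ k' : Y ⟶ ((Subobject.pullback π).obj K' : D),
            g * (k ≫ ((Subobject.pullback π).obj K').arrow) * g⁻¹ =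
              k' ≫ ((Subobject.pullback π).obj K').arrow)) := by
  have := hπ
  refine ⟨⟨?_, ?_, ?_⟩, ?_⟩
  · rintro K' ⟨str, hK'⟩
    obtain ⟨hP1, hPm, hPi⟩ : (∀ W : D, ∃ e : W ⟶ (K' : D), e ≫ K'.arrow = 1) ∧
        (∀ (W : D) (a b : W ⟶ (K' : D)), ∃ c : W ⟶ (K' : D), c ≫ K'.arrow = (a ≫ K'.arrow) * (b ≫ K'.arrow)) ∧
        ∀ (W : D) (a : W ⟶ (K' : D)), ∃ c : W ⟶ (K' : D), c ≫ K'.arrow = (a ≫ K'.arrow)⁻¹ :=
      ⟨fun W => (subgroup_closed str K'.arrow hK' W).1,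
        fun W => (subgroup_closed str K'.arrow hK' W).2.1,
        fun W => (subgroup_closed str K'.arrow hK' W).2.2⟩
    have fac := fun (W : D) (a : W ⟶ G) => (factors_pullback π K' a)
    refine ⟨?_, exists_grpObj_of_mono _ ?_ ?_ ?_⟩
    · obtain ⟨e, he'⟩ := hP1 H
      have : u ≫ π = 1 := by
        have := ((he H 1 u).mpr ⟨𝟙 H, by rw [_root_.one_mul, Category.id_comp]⟩).symm
        rw [this, MonObj.one_comp]
      obtain ⟨c, hc⟩ := (fac H u).mpr ⟨e, he'.trans this.symm⟩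
      exact Subobject.mk_le_of_comm c hc
    · obtain ⟨e, he'⟩ := hP1 (𝟙_ D)
      refine (fac _ _).mpr ⟨e, he'.trans ?_⟩
      rw [MonObj.one_eq_one, MonObj.one_comp]
    · intro W a b
      obtain ⟨a', ha⟩ := (fac W _).mp ⟨a, rfl⟩
      obtain ⟨b', hb⟩ := (fac W _).mp ⟨b, rfl⟩
      obtain ⟨c, hc⟩ := hPm W a' b'
      exact (fac W _).mpr ⟨c, by rw [hc, ha, hb, MonObj.mul_comp]⟩
    · intro W a
      obtain ⟨a', ha⟩ := (fac W _).mp ⟨a, rfl⟩
      obtain ⟨c, hc⟩ := hPi W a'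
      exact (fac W _).mpr ⟨c, by rw [hc, ha, GrpObj.inv_comp]⟩
  · have key : ∀ K₁ K₂ : Subobject Q,
        (Subobject.pullback π).obj K₁ ≤ (Subobject.pullback π).obj K₂ → K₁ ≤ K₂ := by
      intro K₁ K₂ hle
      obtain ⟨B, p, g, hp, hg⟩ := hl _ K₁.arrow
      obtain ⟨c, hc⟩ := (factors_pullback π K₁ g).mpr ⟨p, hg.symm⟩
      obtain ⟨d, hd⟩ := (factors_pullback π K₂ g).mp
        ⟨c ≫ Subobject.ofLE _ _ hle, by rw [Category.assoc, Subobject.ofLE_arrow, hc]⟩
      obtain ⟨z, hz⟩ := factor_of_strongEpi p K₂.arrow d K₁.arrow (hd.trans hg)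
      exact Subobject.le_of_comm z hz
    exact fun K₁ _ K₂ _ h => le_antisymm (key _ _ h.le) (key _ _ h.ge)
  · rintro K ⟨hu', str, hK⟩
    obtain ⟨R, πK, j, hj, hlK, hπK⟩ := himg _ K.arrow str inferInstance hK
      ⟨Subobject.ofMkLE u K hu', Subobject.ofMkLE_arrow _⟩
    have := hK
    have down : ∀ (W : D) (c : W ⟶ R), ∃ (B : D) (p : B ⟶ W) (x : B ⟶ (K : D)),
        StrongEpi p ∧ (x ≫ K.arrow) ≫ π = p ≫ c ≫ j := fun W c => by
      obtain ⟨B, p, x, hp, hx⟩ := hlK W c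
      exact ⟨B, p, x, hp, by rw [Category.assoc, ← hπK, ← Category.assoc, hx, Category.assoc]⟩
    have up : ∀ (B W : D) (p : B ⟶ W) (x : B ⟶ (K : D)) (z : W ⟶ Q), StrongEpi p →
        p ≫ z = (x ≫ K.arrow) ≫ π → ∃ c : W ⟶ R, c ≫ j = z := fun B W p x z hp hz =>
      factor_of_strongEpi p j (x ≫ πK) z (by rw [Category.assoc, hπK, hz, Category.assoc])
    refine ⟨Subobject.mk j, ?_, ?_⟩
    · have hj' : ∀ (W : D) (z : W ⟶ Q), (∃ c : W ⟶ (Subobject.mk j : D), c ≫ (Subobject.mk j).arrow = z) ↔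
          ∃ c : W ⟶ R, c ≫ j = z := fun W z =>
        ⟨fun ⟨c, hc⟩ => ⟨c ≫ (Subobject.underlyingIso j).hom, by
            rw [← hc, Category.assoc, Subobject.underlyingIso_hom_comp_eq_mk]⟩,
          fun ⟨c, hc⟩ => ⟨c ≫ (Subobject.underlyingIso j).inv, by
            rw [← hc, Category.assoc, Subobject.underlyingIso_arrow]⟩⟩
      refine exists_grpObj_of_mono _ ?_ ?_ ?_
      · refine (hj' _ _).mpr (up _ _ (𝟙 _) 1 _ inferInstance ?_)
        rw [MonObj.one_comp, MonObj.one_comp, Category.id_comp, MonObj.one_eq_one]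
      · intro W a b
        refine (hj' _ _).mpr ?_
        obtain ⟨a', ha⟩ := (hj' _ _).mp ⟨a, rfl⟩
        obtain ⟨b', hb⟩ := (hj' _ _).mp ⟨b, rfl⟩
        obtain ⟨B, p, x, hp, hx⟩ := down W a'
        obtain ⟨B', p', y, hp', hy⟩ := down B (p ≫ b')
        refine up B' W (p' ≫ p) ((p' ≫ x) * y) _ inferInstance ?_
        rw [← ha, ← hb, MonObj.mul_comp, MonObj.mul_comp, hy, MonObj.comp_mul,
          Category.assoc p' x, Category.assoc p' (x ≫ K.arrow), hx]
        simp only [Category.assoc]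
      · intro W a
        refine (hj' _ _).mpr ?_
        obtain ⟨a', ha⟩ := (hj' _ _).mp ⟨a, rfl⟩
        obtain ⟨B, p, x, hp, hx⟩ := down W a'
        refine up B W p x⁻¹ _ hp ?_
        rw [← ha, GrpObj.inv_comp, GrpObj.inv_comp, hx, GrpObj.comp_inv]
    · refine le_antisymm ?_ ?_
      · obtain ⟨d, hd⟩ := (factors_pullback π (Subobject.mk j) _).mp ⟨𝟙 _, Category.id_comp _⟩
        obtain ⟨B, p, x, hp, hx⟩ := down _ (d ≫ (Subobject.underlyingIso j).hom)
        simp only [Category.assoc, Subobject.underlyingIso_hom_comp_eq_mk] at hx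
        rw [hd, ← Category.assoc, ← Category.assoc] at hx
        obtain ⟨y, hy⟩ := (he _ _ _).mp hx
        obtain ⟨z, hz⟩ := factor_of_strongEpi p K.arrow (x * (y ≫ Subobject.ofMkLE u K hu'))
          ((Subobject.pullback π).obj (Subobject.mk j)).arrow
          (by rw [MonObj.mul_comp, Category.assoc y, Subobject.ofMkLE_arrow, hy])
        exact Subobject.le_of_comm z hz
      · obtain ⟨c, hc⟩ := (factors_pullback π (Subobject.mk j) K.arrow).mpr
          ⟨πK ≫ (Subobject.underlyingIso j).inv, by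
            rw [Category.assoc, Subobject.underlyingIso_arrow, hπK]⟩
        exact Subobject.le_of_comm c hc
  · intro K'
    constructor
    · intro h Y g k
      obtain ⟨d, hd⟩ := (factors_pullback π K' _).mp ⟨k, rfl⟩
      obtain ⟨d', hd'⟩ := h Y (g ≫ π) d
      obtain ⟨c, hc⟩ := (factors_pullback π K' (g * (k ≫ _) * g⁻¹)).mpr
        ⟨d', by rw [← hd', MonObj.mul_comp, MonObj.mul_comp, GrpObj.inv_comp, hd]⟩
      exact ⟨c, hc.symm⟩
    · intro h Y g k
      obtain ⟨B, p, a, hp, ha⟩ := hl Y g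
      obtain ⟨B', p', x, hp', hx⟩ := hl B (p ≫ k ≫ K'.arrow)
      obtain ⟨c, hc⟩ := (factors_pullback π K' x).mpr
        ⟨p' ≫ p ≫ k, by rw [hx]; simp only [Category.assoc]⟩
      obtain ⟨c', hc'⟩ := h B' (p' ≫ a) c
      obtain ⟨d, hd⟩ := (factors_pullback π K' _).mp ⟨c', hc'.symm⟩
      obtain ⟨z, hz⟩ := factor_of_strongEpi (p' ≫ p) K'.arrow d (g * (k ≫ K'.arrow) * g⁻¹) (by
        rw [hd, hc, MonObj.mul_comp, MonObj.mul_comp, GrpObj.inv_comp, Category.assoc, ha, hx,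
          MonObj.comp_mul, MonObj.comp_mul, GrpObj.comp_inv]
        simp only [Category.assoc])
      exact ⟨z, hz.symm⟩

end Groth.SheafGrpQuot

namespace Groth.SheafGrpQuot

open CategoryTheory CategoryTheory.Limits MonoidalCategory MonObj CartesianMonoidalCategory SemiCartesianMonoidalCategory

/-- The kernel pair of the composite of a subgroup with the quotient map. -/
theorem isKernelPair_sub {D : Type u} [Category.{v} D] [CartesianMonoidalCategory D] [HasPullbacks D]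
    {G H L Q : D} [hG : GrpObj G] [hL : GrpObj L] (u : H ⟶ G) [Mono u] (l : L ⟶ G) [Mono l]
    (hl : @IsMonHom D _ _ L G hL.toMonObj hG.toMonObj l) (π : G ⟶ Q)
    (he : ∀ (W : D) (a b : W ⟶ G), a ≫ π = b ≫ π ↔ ∃ y : W ⟶ H, a * (y ≫ u) = b) :
    IsKernelPair (l ≫ π) (fst L (pullback u l)) ((L ◁ pullback.snd u l) ≫ hL.mul) := by
  have := hl
  have hact : (L ◁ pullback.snd u l) ≫ hL.mul =
      fst L (pullback u l) * (snd L (pullback u l) ≫ pullback.snd u l) := by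
    rw [Hom.mul_def, wL_eq]
  have hw : fst L (pullback u l) ≫ l ≫ π = ((L ◁ pullback.snd u l) ≫ hL.mul) ≫ l ≫ π := by
    rw [hact, ← Category.assoc, ← Category.assoc, MonObj.mul_comp, Category.assoc _ _ l,
      ← pullback.condition, ← Category.assoc _ _ u]
    exact (he _ _ _).mpr ⟨_, rfl⟩
  have ex : ∀ s : PullbackCone (l ≫ π) (l ≫ π),
      ∃ m : s.pt ⟶ L ⊗ pullback u l, m ≫ fst L (pullback u l) = s.fst ∧
        m ≫ ((L ◁ pullback.snd u l) ≫ hL.mul) = s.snd := fun s => by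
    obtain ⟨y, hy⟩ := (he _ (s.fst ≫ l) (s.snd ≫ l)).mp (by simpa only [Category.assoc] using s.condition)
    have : y ≫ u = (s.fst⁻¹ * s.snd) ≫ l := by
      rw [MonObj.mul_comp, GrpObj.inv_comp, eq_inv_mul_iff_mul_eq, hy]
    refine ⟨lift s.fst (pullback.lift y (s.fst⁻¹ * s.snd) this), lift_fst _ _, ?_⟩
    rw [hact, MonObj.comp_mul, lift_fst, lift_snd_assoc, pullback.lift_snd, mul_inv_cancel_left]
  refine ⟨⟨hw⟩, ⟨PullbackCone.IsLimit.mk _ (fun s => (ex s).choose)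
    (fun s => (ex s).choose_spec.1) (fun s => (ex s).choose_spec.2) (fun s m h₁ h₂ => ?_)⟩⟩
  have e₁ : m ≫ fst L (pullback u l) = (ex s).choose ≫ fst L (pullback u l) :=
    h₁.trans (ex s).choose_spec.1.symm
  refine CartesianMonoidalCategory.hom_ext _ _ e₁ ?_
  have e₂ := h₂.trans (ex s).choose_spec.2.symm
  generalize (ex s).choose = c at e₁ e₂ ⊢
  rw [hact, MonObj.comp_mul, MonObj.comp_mul, e₁, mul_right_inj, ← Category.assoc,
    ← Category.assoc, cancel_mono] at e₂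
  exact e₂

end Groth.SheafGrpQuot
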